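import Groth.Agent.Lib.KSix19.RelNoeth.Push
import Groth.Agent.Lib.KSix19.SmoothPush
import Groth.Agent.Lib.OX.PerfectCriterion
import Groth.Agent.Lib.OX.CompactBdd
import Groth.Agent.Lib.DCxKFlat.Amplitude
import Groth.Prelude.Def_MoreMor

/-! # `Rf_*` of a perfect object along a proper perfect morphism -/

set_option autoImplicit false
set_option maxHeartbeats 1600000
set_option backward.isDefEq.respectTransparency false
set_option linter.style.haveILetI false
universe u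

open CategoryTheory CategoryTheory.Limits AlgebraicGeometry HomologicalComplex

attribute [local instance] HasDerivedCategory.standard

namespace GrothLib.KSix19.RelNoeth

open GrothLib.OX GrothLib.KSix19

variable {X Y : Scheme.{u}}

/-- A perfect morphism is locally of finite tor dimension. -/
theorem locFiniteTorDim_of_perfectMor {f : X ⟶ Y} (hf : MoreMor.IsPerfectMor f) : DerSch.LocFiniteTorDim f := by
  intro x
  obtain ⟨V, hV, hxV, -⟩ := exists_isAffineOpen_mem_and_subset (x := f x) (U := ⊤) trivial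
  obtain ⟨U, hU, hxU, hle⟩ := exists_isAffineOpen_mem_and_subset (x := x) (U := f ⁻¹ᵁ V) hxV
  obtain ⟨-, n, hn⟩ := hf U V hU hV hle
  refine ⟨U, -(n : ℤ), 0, hxU, fun x' hx' => hasTorAmplitudeAt_of_ampM f hV hU hle ?_ hx'⟩
  letI := (f.appLE V U hle).hom.toAlgebra
  exact amp_of_iso ((DerivedCategory.singleFunctor (ModuleCat.{u} Γ(Y, V)) 0).mapIso
    (LinearEquiv.toModuleIso
      ({ toFun := fun z => z, map_add' := fun _ _ => rfl
         map_smul' := fun r z => Algebra.smul_def r z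
         invFun := fun z => z, left_inv := fun _ => rfl, right_inv := fun _ => rfl } :
        Γ(X, U) ≃ₗ[Γ(Y, V)] ((ModuleCat.restrictScalars.{u} (f.appLE V U hle).hom).obj
          (ModuleCat.of Γ(X, U) Γ(X, U))))))
    ((KF.hasTorDimLE_iff Γ(X, U) n).1 hn)

/-- `Rf_*` of a perfect object along a proper perfect morphism is perfect. -/
theorem isPerfect_Rpush [IsLocallyNoetherian Y] (f : X ⟶ Y) [IsProper f] (hf : MoreMor.IsPerfectMor f)
    [DCoh.HasRpush f] (E : DCoh.D X) (a : ℤ) [E.IsGE a] (hE : DCoh.IsPerfect E) :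
    DCoh.IsPerfect ((DCoh.Rpush f).obj E) := by
  haveI : IsLocallyNoetherian X := LocallyOfFiniteType.isLocallyNoetherian f
  refine isPerfect_of_local fun y => ?_
  obtain ⟨W, hW, hy, -⟩ := exists_isAffineOpen_mem_and_subset (x := y) (U := ⊤) trivial
  refine ⟨W, W.ι, inferInstance, ⟨⟨y, hy⟩, rfl⟩, ?_⟩
  haveI : IsNoetherianRing Γ(Y, W) := IsLocallyNoetherian.component_noetherian ⟨W, hW⟩
  haveI : CompactSpace W := isCompact_iff_compactSpace.mp hW.isCompact
  let U := f ⁻¹ᵁ W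
  let fW := f ∣_ W
  haveI : DCoh.HasRpush fW := KInj.hasRightDerivedFunctor _
  haveI : CompactSpace U := isCompact_iff_compactSpace.mp (f.isCompact_preimage hW.isCompact)
  haveI : IsAffine (W : Scheme.{u}) := hW
  haveI : QuasiSeparatedSpace U := quasiSeparatedSpace_of_quasiSeparated fW
  let EU := (resD U.ι).obj E
  have hEU : DCoh.IsPerfect EU := isPerfect_resD hE U.ι
  haveI : EU.IsGE a := (DerivedCategory.isGE_iff _ _).2 fun k hk =>
    ((Scheme.Modules.restrictFunctor U.ι).map_isZero (DerivedCategory.isZero_of_isGE E a k hk)).of_iso (HDResIso U.ι E k)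
  let G := DerivedCategory.Q.objPreimage EU
  let e : DCoh.toD (U : Scheme.{u}) G ≅ EU := DerivedCategory.Q.objObjPreimageIso EU
  obtain ⟨d, hd⟩ : ∃ d, EU.IsLE d := exists_isLE_of_isPerfect hEU
  haveI : (DCoh.toD (U : Scheme.{u}) G).IsGE a := DerivedCategory.TStructure.t.isGE_of_iso e.symm a
  haveI : (DCoh.toD (U : Scheme.{u}) G).IsLE d := DerivedCategory.TStructure.t.isLE_of_iso e.symm d
  have hq : DCoh.IsQCohD (DCoh.toD (U : Scheme.{u}) G) :=
    BettiExact.isQCohD_of_iso' e.symm (isQCohD_of_isPerfect hEU)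
  have hperfG : DCoh.IsPerfect (DCoh.toD (U : Scheme.{u}) G) := isPerfect_of_iso hEU e.symm
  -- locally finite tor amplitude over `Y`
  have hamp : DerSch.LocFiniteTorAmplitude (U.ι ≫ f) G := by
    intro x
    obtain ⟨V, c, b, hx, hV⟩ := locHasFiniteTorDim_of_isPerfect hperfG x
    obtain ⟨V₁, n, hx₁, hn⟩ := RpushAmp.exists_torDim_near (locFiniteTorDim_of_perfectMor hf) (U.ι x)
    refine ⟨V ⊓ U.ι ⁻¹ᵁ V₁, c - n, b, ⟨hx, hx₁⟩, fun x' hx' => ?_⟩
    have h1 : DCoh.HasFlatAmplitudeIn c b (DCoh.toD V.toScheme ((resCx V.ι).obj G)) := hV _ ⟨Iso.refl _⟩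
    have h2 : DerSch.HasTorAmplitudeAt (𝟙 _) c b G x' :=
      (hasTorAmplitudeAt_id_restrict_iff V.ι ⟨x', hx'.1⟩ c b _).1 (stalks_of_flatAmplitude h1 _)
    have h3 := hasTorAmplitudeAt_comp (𝟙 _) U.ι x' 0 (by simpa using hasTorAmplitudeAt_of_flat U.ι x') h2
    rw [Category.id_comp] at h3
    simpa using hasTorAmplitudeAt_comp U.ι f x' n (hn (U.ι x') hx'.2) h3
  let B := DerivedCategory.Q.objPreimage ((DCoh.Rpush fW).obj (DCoh.toD (U : Scheme.{u}) G))
  let eB : DCoh.toD (W : Scheme.{u}) B ≅ (DCoh.Rpush fW).obj (DCoh.toD (U : Scheme.{u}) G) :=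
    DerivedCategory.Q.objObjPreimageIso _
  refine isPerfect_of_iso (K := DCoh.toD (W : Scheme.{u}) B) ?_ (eB ≪≫ (rpushIsoRres fW).app _ ≪≫ (RR fW).mapIso e ≪≫
    ((resDRRBaseChange f W).app E).symm ≪≫ ((resD W.ι).mapIso ((rpushIsoRres f).app E)).symm)
  refine isPerfect_of_locHasFiniteTorDim (fun m => isPseudoCoherentD_of_iso ?_ eB.symm) fun z => ?_
  · have hc : DCoh.IsCohD (DCoh.toD (U : Scheme.{u}) G) :=
      fun i =>
      BettiExact.isCoh_HD_of_pseudoCoherent (isPseudoCoherentD_of_isPerfect hperfG (i - 1)) (by omega)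
    have hP : WSerre.cohIn (RpushSupp20.properP fW) (DCoh.toD (U : Scheme.{u}) G) := fun i =>
      ⟨hc i, QCoh.isClosed_support_of_isCoh (hc i), inferInstance⟩
    obtain ⟨b', hb'⟩ := RpushSupp20.exists_isLE_Rpush fW (DCoh.toD (U : Scheme.{u}) G) a d hP
    exact isPseudoCoherentD_of_isCohD (RpushSupp20.isCohD_Rpush fW (DCoh.toD (U : Scheme.{u}) G) a hP).1 b' m
  · obtain ⟨V, c, b, hz, hV⟩ := RpushAmp.locFinite_Rpush (U.ι ≫ f) W.ι fW (morphismRestrict_ι f W) G hq a d hamp B ⟨eB⟩ z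
    refine ⟨V, c, b, hz, fun F' ⟨e'⟩ => ?_⟩
    have key : DCoh.HasFlatAmplitudeIn c b (DCoh.toD V.toScheme ((resCx V.ι).obj B)) :=
      flatAmplitude_of_stalks' fun w => (hasTorAmplitudeAt_id_restrict_iff V.ι w _ _ _).2 (by
        have h5 := (RpushAmp.ampAt_iff_at W.ι B c b w.1).1 (hV w.1 w.2)
        refine (RpushAmp.ampAt_iff_at (𝟙 _) B c b (V.ι w)).2 ((RelAmp22.ampAt_comp_openImmersion (𝟙 _) W.ι _ _).1 ?_)
        rw [Category.id_comp]
        exact h5)
    obtain ⟨E', hv, hfl, ⟨r⟩⟩ := key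
    obtain ⟨k⟩ := nonempty_iso_restrictCx V e'.symm
    exact ⟨E', hv, hfl, ⟨r ≪≫ k⟩⟩

end GrothLib.KSix19.RelNoeth
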