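import Groth.Agent.Lib.KSix19.ChartIndep
import Groth.Agent.Lib.KSix19.AffineModel
import Groth.Agent.Lib.OX.AffineLocal
import Groth.Agent.Lib.DCxRing.Homology

/-! # Relative pseudo-coherence over a locally Noetherian base from coherence of the cohomology -/

set_option autoImplicit false
set_option maxHeartbeats 1600000
set_option backward.isDefEq.respectTransparency false
set_option linter.style.haveILetI false
universe u

open CategoryTheory CategoryTheory.Limits AlgebraicGeometry HomologicalComplex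

attribute [local instance] HasDerivedCategory.standard

namespace GrothLib.KSix19.RelNoeth

open GrothLib.OX GrothLib.KSix19

theorem fp_of_noetherian {A : Type u} [CommRing A] [IsNoetherianRing A] (I : Ideal A) (hI : I.FG) :
    Module.FinitePresentation A I := by
  haveI := Module.Finite.of_fg hI
  exact Module.finitePresentation_of_finite _ I

theorem finite_restrict {P B : Type u} [CommRing P] [CommRing B] {φ : P →+* B} (hφ : Function.Surjective φ)
    (M : ModuleCat.{u} B) (h : Module.Finite B M) : Module.Finite P ((ModuleCat.restrictScalars.{u} φ).obj M) := by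
  letI := φ.toAlgebra
  haveI : Module.Finite P B := Module.Finite.of_surjective (Algebra.linearMap P B) hφ
  letI : Module P M := Module.compHom M φ
  haveI : IsScalarTower P B M := .of_algebraMap_smul fun _ _ => rfl
  exact (Module.Finite.trans B M : Module.Finite P M)

/-- Pseudo-coherence over a Noetherian ring passes to a ring surjecting onto it. -/
theorem pc_restrict {P B : Type u} [CommRing P] [CommRing B] [IsNoetherianRing P] {φ : P →+* B}
    (hφ : Function.Surjective φ) {C : DRing.Cx B} {m : ℤ} (h : DRing.IsPseudoCoherent B m (DRing.toD C)) :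
    DRing.IsPseudoCoherent P m (DRing.toD ((DRing.restrictCx φ).obj C)) := by
  haveI : IsNoetherianRing B := isNoetherianRing_of_surjective P B φ hφ
  obtain ⟨⟨b, hb⟩, h2, h3⟩ := (DR.isPseudoCoherent_iff_of_coherent fp_of_noetherian _ m).1 h
  let e : ∀ i, (DerivedCategory.homologyFunctor (ModuleCat.{u} P) i).obj (DRing.toD ((DRing.restrictCx φ).obj C)) ≅
      (ModuleCat.restrictScalars.{u} φ).obj
        ((DerivedCategory.homologyFunctor (ModuleCat.{u} B) i).obj (DRing.toD C)) := fun i =>
    (DerivedCategory.homologyFunctorFactors _ i).app _ ≪≫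
      (C.sc i).mapHomologyIso (ModuleCat.restrictScalars.{u} φ) ≪≫
      (ModuleCat.restrictScalars.{u} φ).mapIso ((DerivedCategory.homologyFunctorFactors _ i).app C).symm
  have hfin : ∀ i, m ≤ i → Module.Finite B (Dual.HD B (DRing.toD C) i) := fun i hi => by
    rcases hi.eq_or_lt with rfl | hi
    · exact h2
    · have := h3 i hi; infer_instance
  have hfin' : ∀ i, m ≤ i → Module.Finite P (Dual.HD P (DRing.toD ((DRing.restrictCx φ).obj C)) i) := fun i hi =>
    haveI := finite_restrict hφ _ (hfin i hi)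
    Module.Finite.equiv (e i).toLinearEquiv.symm
  refine (DR.isPseudoCoherent_iff_of_coherent fp_of_noetherian _ m).2 ⟨⟨b, fun i hi => ?_⟩, hfin' m le_rfl,
    fun i hi => ?_⟩
  · haveI : Subsingleton ((ModuleCat.restrictScalars.{u} φ).obj
        ((DerivedCategory.homologyFunctor (ModuleCat.{u} B) i).obj (DRing.toD C))) := hb i hi
    exact (e i).toLinearEquiv.toEquiv.subsingleton
  · haveI := hfin' i hi.le
    exact Module.finitePresentation_of_finite _ _

variable {Y S : Scheme.{u}}

/-- Coherent cohomology bounded above near every point gives relative pseudo-coherence. -/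
theorem isPseudoCoherentRelAll_of_coh [IsLocallyNoetherian S] (q : Y ⟶ S) [LocallyOfFiniteType q] {K : DCoh.D Y}
    (hK : DCoh.IsCohD K) (hb : ∀ y : Y, ∃ (U : Y.Opens) (b : ℤ), y ∈ U ∧ ∀ i, b < i →
      IsZero ((Scheme.Modules.restrictFunctor U.ι).obj (DCoh.HD K i))) :
    DerSch.IsPseudoCoherentRelAll q K := fun m => by
  haveI : IsLocallyNoetherian Y := LocallyOfFiniteType.isLocallyNoetherian q
  refine isPseudoCoherentRel_of_local fun y => ?_
  obtain ⟨W, hW, hyW, -⟩ := exists_isAffineOpen_mem_and_subset (x := q y) (U := ⊤) trivial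
  obtain ⟨U₀, b, hy₀, hb₀⟩ := hb y
  obtain ⟨U, hU, hyU, hUle⟩ := exists_isAffineOpen_mem_and_subset (x := y) (U := q ⁻¹ᵁ W ⊓ U₀) ⟨hyW, hy₀⟩
  obtain ⟨n, φ, hφ⟩ := exists_isChart q hU hW (fun z hz => (hUle hz).1)
  haveI : IsNoetherianRing Γ(S, W) := IsLocallyNoetherian.component_noetherian ⟨W, hW⟩
  refine ⟨U, W, fun z hz => (hUle hz).1, n, φ, hyU, hU, hW, hφ, ?_⟩
  obtain ⟨M, ⟨eM⟩⟩ := exists_tildeD_rep (fun i => (hK i).1) hU.fromSpec
  let C := DerivedCategory.Q.objPreimage M
  let eC : DRing.toD C ≅ M := DerivedCategory.Q.objObjPreimageIso M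
  let eK : (resD hU.fromSpec).obj K ≅ DerivedCategory.Q.obj (tlCx C) :=
    eM.symm ≪≫ (DCoh.tildeD _).mapIso eC.symm ≪≫
      (tilde.functor (CommRingCat.of Γ(Y, U))).mapDerivedCategoryFactors.app C
  refine (pcOn_iff_model hU hφ.1 (show IsModel (B := Γ(Y, U)) hU.fromSpec C K from ⟨eK⟩)).2 (pc_restrict hφ.1 ?_)
  have hpc : DCoh.IsPseudoCoherentD m ((resD hU.fromSpec).obj K) := by
    refine (isPseudoCoherentD_fromSpec_iff (fun i => (hK i).1) hU m).2
      ⟨⟨b, (DerivedCategory.isLE_iff _ _).2 fun i hi => IsZero.of_iso ?_ (HDResIso hU.fromSpec K i)⟩,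
        fun i _ => Cohom.isCoh_restrict _ (hK i) hU.fromSpec⟩
    let j : Spec Γ(Y, U) ⟶ U₀ := IsOpenImmersion.lift U₀.ι hU.fromSpec
      (by rw [hU.range_fromSpec, Scheme.Opens.range_ι]; exact fun z hz => (hUle hz).2)
    have hj : j ≫ U₀.ι = hU.fromSpec := IsOpenImmersion.lift_fac _ _ _
    haveI : IsOpenImmersion j := IsOpenImmersion.of_comp j U₀.ι
    exact IsZero.of_iso ((Scheme.Modules.restrictFunctor j).map_isZero (hb₀ i hi))
      (((Scheme.Modules.restrictFunctorComp j U₀.ι).symm ≪≫ Scheme.Modules.restrictFunctorCongr hj).app _).symm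
  exact DerBC.isPseudoCoherent_of_iso eC.symm
    ((isPseudoCoherentD_tildeD_iff (A := Γ(Y, U)) M m).1 (isPseudoCoherentD_of_iso hpc eM.symm))

end GrothLib.KSix19.RelNoeth
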