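import Groth.Agent.Lib.KSix19.RelNoeth.Main
import Groth.Agent.Lib.KSix19.RpushAmp.Main
import Groth.Agent.Lib.KSix19.BettiExact.RelCoh
import Groth.Agent.Lib.KSix19.RelOps
import Groth.Agent.S6236

/-! # Direct images of relatively pseudo-coherent objects over a locally Noetherian base -/

set_option autoImplicit false
set_option maxHeartbeats 1600000
set_option backward.isDefEq.respectTransparency false
set_option linter.style.haveILetI false
universe u

open CategoryTheory CategoryTheory.Limits AlgebraicGeometry HomologicalComplex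

attribute [local instance] HasDerivedCategory.standard

namespace GrothLib.KSix19.RelNoeth

open GrothLib.OX GrothLib.KSix19

variable {X Y S : Scheme.{u}}

/-- `Rf_*` of a bounded below relatively pseudo-coherent object is locally bounded above. -/
theorem exists_bound_Rpush_near (p : X ⟶ S) (f : X ⟶ Y) [QuasiCompact f] [QuasiSeparated f] [DCoh.HasRpush f]
    {E : DCoh.D X} (a : ℤ) [E.IsGE a] (hq : DCoh.IsQCohD E) {m : ℤ} (hE : DerSch.IsPseudoCoherentRel p m E)
    (W : Y.Opens) (hW : IsCompact (W : Set Y)) :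
    ∃ b' : ℤ, ∀ i : ℤ, b' < i →
      IsZero ((Scheme.Modules.restrictFunctor W.ι).obj (DCoh.HD ((DCoh.Rpush f).obj E) i)) := by
  haveI : CompactSpace W := isCompact_iff_compactSpace.mp hW
  let U := f ⁻¹ᵁ W
  haveI : CompactSpace U := isCompact_iff_compactSpace.mp (f.isCompact_preimage hW)
  let G := DerivedCategory.Q.objPreimage E
  let e : DCoh.toD X G ≅ E := DerivedCategory.Q.objObjPreimageIso E
  obtain ⟨d, hd⟩ := Groth.Agent.S6236.result (U.ι ≫ p) m _
    (isPseudoCoherentRel_restrict (isPseudoCoherentRel_of_iso e.symm hE) U.ι)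
  let EU := (resD U.ι).obj E
  haveI : EU.IsLE d :=
    @CategoryTheory.Triangulated.TStructure.isLE_of_iso _ _ _ _ _ _ _ DerivedCategory.TStructure.t _ _ (((resDFac U.ι).app G).symm ≪≫ (resD U.ι).mapIso e) d hd
  haveI : EU.IsGE a := (DerivedCategory.isGE_iff _ _).2 fun k hk =>
    ((Scheme.Modules.restrictFunctor U.ι).map_isZero (DerivedCategory.isZero_of_isGE E a k hk)).of_iso (HDResIso U.ι E k)
  obtain ⟨N, hN⟩ := exists_bound_Rres (f ∣_ W)
  refine ⟨d + N, fun i hi => ?_⟩
  exact (RpushAmp.isZero_Rres_of_mod' (f ∣_ W) N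
      (fun M hM i hi => hN _ (RpushAmp.isQCohD_inD M hM) inferInstance i hi.le) EU a d (isQCohD_resD U.ι hq) i hi).of_iso
    ((HDResIso W.ι _ i).symm ≪≫ (DerivedCategory.homologyFunctor _ i).mapIso
      ((resD W.ι).mapIso ((rpushIsoRres f).app E) ≪≫ (resDRRBaseChange f W).app E))

/-- **`Rf_*` preserves relative pseudo-coherence over a locally Noetherian base.** -/
theorem isPseudoCoherentRelAll_Rpush [IsLocallyNoetherian S] (p : X ⟶ S) (q : Y ⟶ S) [LocallyOfFiniteType p]
    [LocallyOfFiniteType q] (f : X ⟶ Y) [IsProper f] [DCoh.HasRpush f] (E : DCoh.D X) (a : ℤ) [E.IsGE a]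
    (hE : DerSch.IsPseudoCoherentRelAll p E) : DerSch.IsPseudoCoherentRelAll q ((DCoh.Rpush f).obj E) := by
  haveI : IsLocallyNoetherian X := LocallyOfFiniteType.isLocallyNoetherian p
  haveI : IsLocallyNoetherian Y := LocallyOfFiniteType.isLocallyNoetherian q
  have hc := BettiExact.isCohD_of_isPseudoCoherentRelAll p hE
  have hP : WSerre.cohIn (RpushSupp20.properP f) E := fun i =>
    ⟨hc i, QCoh.isClosed_support_of_isCoh (hc i), inferInstance⟩
  refine isPseudoCoherentRelAll_of_coh q (RpushSupp20.isCohD_Rpush f E a hP).1 fun y => ?_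
  obtain ⟨W, hW, hy, -⟩ := exists_isAffineOpen_mem_and_subset (x := y) (U := ⊤) trivial
  obtain ⟨b', hb'⟩ := exists_bound_Rpush_near p f a (fun i => (hc i).1) (hE 0) W hW.isCompact
  exact ⟨W, b', hy, hb'⟩

end GrothLib.KSix19.RelNoeth
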